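import Groth.Agent.CplHomLib.Main
import Groth.Agent.DiagHopfLib.Rigid

set_option autoImplicit false

/-!
Full faithfulness of the reduction of groups of multiplicative type over a henselian local ring.
-/

noncomputable section

universe u w

open scoped TensorProduct
open Groth.Agent.TorusField Groth.Agent.DiagHopf

namespace Groth.Agent.MultHens

variable {R : Type u} [CommRing R] {A : Type u} [CommRing A] [HopfAlgebra R A] {M : Type u} [AddCommGroup M]

/-- Group-like elements congruent modulo the radical agree. -/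
theorem gl_eq_of_jacobson {S S' : Type u} [CommRing S] [Algebra R S] [CommRing S'] [Algebra R S']
    (E : Split R A M S) (μ : S →ₐ[R] S') (hμ : ∀ x, μ x = 0 → x ∈ Ideal.jacobson (⊥ : Ideal S))
    {x y : S ⊗[R] A} (hx : IsGL R A S x) (hy : IsGL R A S y) (h : push μ x = push μ y) : x = y := by
  classical
  obtain ⟨E', hE'⟩ := exists_split_push E μ
  refine E.e.ext_elem fun c => ?_
  have hi : ∀ {z}, IsGL R A S z → IsIdempotentElem (E.e.repr z c) := fun {z} hz => by
    have := E.repr_idem hz c c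
    rwa [if_pos rfl] at this
  set a := E.e.repr x c
  set b := E.e.repr y c
  have hd : a - b ∈ Ideal.jacobson (⊥ : Ideal S) :=
    hμ _ (by rw [map_sub, ← repr_push E E' μ hE', ← repr_push E E' μ hE', h, sub_self])
  have hcube : (a - b) ^ 3 = a - b := by
    have ha : a * a = a := hi hx
    have hb : b * b = b := hi hy
    linear_combination (a - 3 * b + 1) * ha + (3 * a - b - 1) * hb
  have hu : IsUnit ((a - b) * (-(a - b)) + 1) := Ideal.mem_jacobson_bot.1 hd _
  have h0 : (a - b) * ((a - b) * (-(a - b)) + 1) = 0 := by linear_combination -hcube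
  exact sub_eq_zero.1 (hu.mul_left_eq_zero.1 h0)

theorem le_jacobson_of_finite [IsLocalRing R] (U : Type u) [CommRing U] [Algebra R U] [Module.Finite R U] {x : U}
    (hx : x ∈ (IsLocalRing.maximalIdeal R).map (algebraMap R U)) : x ∈ Ideal.jacobson (⊥ : Ideal U) := by
  refine (le_sInf fun P hP => ?_ : (IsLocalRing.maximalIdeal R).map (algebraMap R U) ≤ _) hx
  haveI : P.IsMaximal := hP.2
  rw [Ideal.map_le_iff_le_comap]
  exact le_of_eq (IsLocalRing.eq_maximalIdeal (Ideal.isMaximal_comap_of_isIntegral_of_isMaximal (R := R) P)).symm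

theorem mem_map_of_one_tmul [IsLocalRing R] {U : Type u} [CommRing U] [Algebra R U] {x : U}
    (h : (Algebra.TensorProduct.includeRight : U →ₐ[R] IsLocalRing.ResidueField R ⊗[R] U) x = 0) :
    x ∈ (IsLocalRing.maximalIdeal R).map (algebraMap R U) := by
  have h' : (1 : R ⧸ IsLocalRing.maximalIdeal R) ⊗ₜ[R] x = 0 := h
  have e := congrArg (TensorProduct.quotTensorEquivQuotSMul U (IsLocalRing.maximalIdeal R)) h'
  rw [map_zero, show (1 : R ⧸ IsLocalRing.maximalIdeal R) = Ideal.Quotient.mk _ 1 from rfl,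
    TensorProduct.quotTensorEquivQuotSMul_mk_tmul, one_smul, Submodule.Quotient.mk_eq_zero, Ideal.smul_top_eq_map] at e
  exact e

theorem mem_jacobson_of_residue [IsLocalRing R] {U : Type u} [CommRing U] [Algebra R U] [Module.Finite R U] {x : U}
    (h : (Algebra.TensorProduct.includeRight : U →ₐ[R] IsLocalRing.ResidueField R ⊗[R] U) x = 0) :
    x ∈ Ideal.jacobson (⊥ : Ideal U) :=
  le_jacobson_of_finite U (mem_map_of_one_tmul h)

/-- Extension of a homomorphism over the residue field to the residue algebra of an `R`-algebra. -/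
def resHom [IsLocalRing R] {B C : Type u} [CommRing B] [HopfAlgebra R B] [CommRing C] [HopfAlgebra R C]
    (ψ : C →ₐ[R] IsLocalRing.ResidueField R ⊗[R] B) (U : Type u) [CommRing U] [Algebra R U] :
    C →ₐ[R] (IsLocalRing.ResidueField R ⊗[R] U) ⊗[R] B :=
  (push (Algebra.TensorProduct.includeLeft : IsLocalRing.ResidueField R →ₐ[R] IsLocalRing.ResidueField R ⊗[R] U)).comp ψ

variable [HenselianLocalRing R] {B : Type u} [CommRing B] [HopfAlgebra R B] {C : Type u} [CommRing C] [HopfAlgebra R C]

theorem reduction_injective (hBft : Algebra.FiniteType R B) (hG : SGA3b.IsMultType R B)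
    (hCft : Algebra.FiniteType R C) (hH : SGA3b.IsMultType R C) (φ ψ : C →ₐc[R] B)
    (h : ∀ c : C, (1 : IsLocalRing.ResidueField R) ⊗ₜ[R] (φ c) = (1 : IsLocalRing.ResidueField R) ⊗ₜ[R] (ψ c)) :
    φ = ψ := by
  obtain ⟨TB, _, _, _, MB, _, hBfin, hBff, hBu, -, ⟨EB⟩⟩ := CplHom.exists_local_split hBft hG
  obtain ⟨TC, _, _, _, MC, _, hCfin, hCff, hCu, -, ⟨EC⟩⟩ := CplHom.exists_local_split hCft hH
  haveI := hBfin; haveI := hCfin; haveI := hBff; haveI := hCff; haveI := hBu; haveI := hCu
  obtain ⟨EB', -⟩ := exists_split_push EB (Algebra.TensorProduct.includeLeft : TB →ₐ[R] TB ⊗[R] TC)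
  obtain ⟨EC', -⟩ := exists_split_push EC (Algebra.TensorProduct.includeRight : TC →ₐ[R] TB ⊗[R] TC)
  let U := TB ⊗[R] TC
  haveI : Module.FaithfullyFlat TB (TB ⊗[R] TC) := inferInstance
  haveI : Module.FaithfullyFlat R (TB ⊗[R] TC) := Module.FaithfullyFlat.trans R TB _
  let Φ : ∀ f : C →ₐc[R] B, (TB ⊗[R] TC) ⊗[R] C →ₐ[TB ⊗[R] TC] (TB ⊗[R] TC) ⊗[R] B := fun f =>
    Algebra.TensorProduct.map (AlgHom.id _ _) (f : C →ₐ[R] B)
  have hgl : ∀ (f : C →ₐc[R] B) n, IsGL R B (TB ⊗[R] TC) (Φ f (EC'.e n)) := fun f n => by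
    have hr := respD_of_bialgHom (Bialgebra.TensorProduct.map (BialgHom.id (TB ⊗[R] TC) (TB ⊗[R] TC)) f)
    have := hr.isGL (EC'.gl n)
    have e : extHom (((Bialgebra.TensorProduct.map (BialgHom.id (TB ⊗[R] TC) (TB ⊗[R] TC)) f :
        (TB ⊗[R] TC) ⊗[R] C →ₐ[TB ⊗[R] TC] (TB ⊗[R] TC) ⊗[R] B).restrictScalars R).comp
          Algebra.TensorProduct.includeRight) = Φ f :=
      Algebra.TensorProduct.ext (Subsingleton.elim _ _) (AlgHom.ext fun c => by simp [extHom_tmul, Φ])
    rwa [e] at this
  let μ : TB ⊗[R] TC →ₐ[R] IsLocalRing.ResidueField R ⊗[R] (TB ⊗[R] TC) := Algebra.TensorProduct.includeRight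
  have key : ∀ n, Φ φ (EC'.e n) = Φ ψ (EC'.e n) := fun n => by
    refine gl_eq_of_jacobson EB' μ (fun x hx => mem_jacobson_of_residue hx) (hgl φ n) (hgl ψ n) ?_
    generalize EC'.e n = z
    induction z using TensorProduct.induction_on with
    | zero => simp
    | add a b ha hb => simp only [map_add, ha, hb]
    | tmul u c =>
      have hk := congrArg (push (Algebra.TensorProduct.includeLeft :
        IsLocalRing.ResidueField R →ₐ[R] IsLocalRing.ResidueField R ⊗[R] (TB ⊗[R] TC))) (h c)
      have hsplit : ∀ f : C →ₐc[R] B, push μ (Φ f (u ⊗ₜ[R] c)) = ((1 : IsLocalRing.ResidueField R) ⊗ₜ[R] u) ⊗ₜ[R] (1 : B) *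
          push (Algebra.TensorProduct.includeLeft :
            IsLocalRing.ResidueField R →ₐ[R] IsLocalRing.ResidueField R ⊗[R] (TB ⊗[R] TC))
            ((1 : IsLocalRing.ResidueField R) ⊗ₜ[R] f c) := fun f => by
        simp [μ, Φ, push, Algebra.TensorProduct.tmul_mul_tmul]
      rw [hsplit, hsplit, hk]
  have heq : Φ φ = Φ ψ := AlgHom.toLinearMap_injective (EC'.e.ext key)
  refine BialgHom.ext fun c => Module.FaithfullyFlat.tensorProduct_mk_injective (A := R) (B := TB ⊗[R] TC) B ?_
  simpa [Φ] using DFunLike.congr_fun heq ((1 : TB ⊗[R] TC) ⊗ₜ[R] c)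

theorem reduction_surjective (hBft : Algebra.FiniteType R B) (hG : SGA3b.IsMultType R B)
    (hCft : Algebra.FiniteType R C) (hH : SGA3b.IsMultType R C)
    (φ₀ : (IsLocalRing.ResidueField R ⊗[R] C) →ₐc[IsLocalRing.ResidueField R] (IsLocalRing.ResidueField R ⊗[R] B)) :
    ∃ φ : C →ₐc[R] B, ∀ c : C, φ₀ ((1 : IsLocalRing.ResidueField R) ⊗ₜ[R] c) =
      (1 : IsLocalRing.ResidueField R) ⊗ₜ[R] (φ c) := by
  classical
  obtain ⟨TB, _, _, _, MB, _, hBfin, hBff, hBu, -, ⟨EB⟩⟩ := CplHom.exists_local_split hBft hG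
  obtain ⟨TC, _, _, _, MC, _, hCfin, hCff, hCu, -, ⟨EC⟩⟩ := CplHom.exists_local_split hCft hH
  haveI := hBfin; haveI := hCfin; haveI := hBff; haveI := hCff; haveI := hBu; haveI := hCu
  haveI : Module.Projective R B := Groth.Agent.QIso.flat_of_split EB
  haveI : Nontrivial (TB ⊗[R] TC) := (Module.FaithfullyFlat.tensorProduct_mk_injective (A := R) (B := TB) TC).nontrivial
  haveI : Module.Finite TB (TB ⊗[R] TC) := inferInstance
  haveI : Module.Finite R (TB ⊗[R] TC) := Module.Finite.trans TB _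
  -- a local piece splitting both groups
  obtain ⟨ι, _, L, _, hL, ⟨eL⟩⟩ := HenselLib.exists_pi_local (R := R) (TB ⊗[R] TC)
  obtain ⟨i⟩ : Nonempty ι := by
    by_contra hne
    rw [not_nonempty_iff] at hne
    exact not_subsingleton (TB ⊗[R] TC) eL.toEquiv.subsingleton
  letI : Algebra R (L i) :=
    (((Pi.evalRingHom L i).comp eL.toRingHom).comp (algebraMap R (TB ⊗[R] TC))).toAlgebra
  let π : TB ⊗[R] TC →ₐ[R] L i := { (Pi.evalRingHom L i).comp eL.toRingHom with commutes' := fun r => rfl }
  have hπ : Function.Surjective π := (Function.surjective_eval i).comp eL.surjective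
  haveI : Module.Finite R (L i) := Module.Finite.of_surjective π.toLinearMap hπ
  haveI := hL i
  let σ : L i →ₗ[R] TB ⊗[R] TC :=
    { toFun := fun x => eL.symm (Pi.single i x)
      map_add' := fun x y => by rw [Pi.single_add, map_add]
      map_smul' := fun r x => eL.injective (by
        rw [RingHom.id_apply, RingEquiv.apply_symm_apply, Algebra.smul_def, Algebra.smul_def, map_mul,
          RingEquiv.apply_symm_apply]
        funext j
        by_cases hj : j = i
        · subst hj
          rw [Pi.mul_apply, Pi.single_eq_same, Pi.single_eq_same]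
          rfl
        · simp [Pi.single_eq_of_ne hj]) }
  haveI : Module.Flat R (L i) := Module.Flat.of_retract σ π.toLinearMap (LinearMap.ext fun x => by
    show eL (eL.symm (Pi.single i x)) i = x
    rw [RingEquiv.apply_symm_apply, Pi.single_eq_same])
  haveI : IsLocalHom (algebraMap R (L i)) := by
    refine ((IsLocalRing.local_hom_TFAE (algebraMap R (L i))).out 0 4).mpr ?_
    exact IsLocalRing.eq_maximalIdeal
      (Ideal.isMaximal_comap_of_isIntegral_of_isMaximal (R := R) (IsLocalRing.maximalIdeal (L i)))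
  haveI : Module.FaithfullyFlat R (L i) := Module.FaithfullyFlat.of_flat_of_isLocalHom
  haveI : Algebra.FormallyUnramified R (TB ⊗[R] TC) := Algebra.FormallyUnramified.comp R TB _
  haveI : Algebra.FormallyUnramified R (L i) := Algebra.FormallyUnramified.of_surjective π hπ
  have hmLi : (IsLocalRing.maximalIdeal R).map (algebraMap R (L i)) = IsLocalRing.maximalIdeal (L i) :=
    Algebra.FormallyUnramified.map_maximalIdeal
  obtain ⟨EBT, -⟩ := exists_split_push EB (π.comp Algebra.TensorProduct.includeLeft)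
  obtain ⟨ECT, -⟩ := exists_split_push EC (π.comp Algebra.TensorProduct.includeRight)
  -- the residue field
  letI : Algebra (IsLocalRing.ResidueField R) (IsLocalRing.ResidueField (L i)) :=
    (IsLocalRing.ResidueField.map (algebraMap R (L i))).toAlgebra
  haveI : IsScalarTower R (IsLocalRing.ResidueField R) (IsLocalRing.ResidueField (L i)) :=
    IsScalarTower.of_algebraMap_eq fun r => by
      show _ = IsLocalRing.ResidueField.map (algebraMap R (L i)) (IsLocalRing.residue R r)
      rw [IsLocalRing.ResidueField.map_residue]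
      rfl
  let res : L i →ₐ[R] IsLocalRing.ResidueField (L i) := IsScalarTower.toAlgHom R (L i) _
  let ψk : C →ₐ[R] IsLocalRing.ResidueField R ⊗[R] B :=
    ((φ₀ : IsLocalRing.ResidueField R ⊗[R] C →ₐ[IsLocalRing.ResidueField R]
      IsLocalRing.ResidueField R ⊗[R] B).restrictScalars R).comp Algebra.TensorProduct.includeRight
  have hψk : RespD ψk := respD_of_bialgHom φ₀
  let kκ : IsLocalRing.ResidueField R →ₐ[R] IsLocalRing.ResidueField (L i) :=
    IsScalarTower.toAlgHom R _ _
  let ψκ : C →ₐ[R] IsLocalRing.ResidueField (L i) ⊗[R] B := (push kκ).comp ψk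
  have hψκ : RespD ψκ := hψk.push kκ
  obtain ⟨EBκ, hEBκ⟩ := exists_split_push EBT res
  obtain ⟨ECκ, hECκ⟩ := exists_split_push ECT res
  choose f hf using fun n => EBκ.exists_eq (hψκ.isGL (ECκ.gl n))
  have hfadd : ∀ a b, f (a + b) = f a + f b := fun a b => by
    apply EBκ.e.injective
    rw [EBκ.e_add, ← hf, ← hf, ← hf, ECκ.e_add, map_mul]
  have hf0 : f 0 = 0 := by
    apply EBκ.e.injective
    rw [EBκ.e_zero, ← hf, ECκ.e_zero, map_one]
  let Φl : L i ⊗[R] C →ₗ[L i] L i ⊗[R] B := ECT.e.constr (L i) fun n => EBT.e (f n)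
  have hΦe : ∀ n, Φl (ECT.e n) = EBT.e (f n) := fun n => ECT.e.constr_basis (L i) _ n
  let Φ : L i ⊗[R] C →ₐ[L i] L i ⊗[R] B := AlgHom.ofLinearMap Φl
    (by rw [← ECT.e_zero, hΦe, hf0, EBT.e_zero])
    (by
      have : ((LinearMap.mul (L i) (L i ⊗[R] C)).compr₂ Φl) =
          (LinearMap.mul (L i) (L i ⊗[R] B)).compl₁₂ Φl Φl :=
        ECT.e.ext fun a => ECT.e.ext fun b => by simp [← ECT.e_add, hΦe, hfadd, ← EBT.e_add]
      exact fun x y => LinearMap.congr_fun₂ this x y)
  let Φb : L i ⊗[R] C →ₐc[L i] L i ⊗[R] B := BialgHom.ofAlgHom Φ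
    (AlgHom.toLinearMap_injective <| ECT.e.ext fun n => by
      simp only [AlgHom.toLinearMap_apply, AlgHom.comp_apply, Bialgebra.counitAlgHom_apply]
      show CoalgebraStruct.counit (R := L i) (Φl (ECT.e n)) = CoalgebraStruct.counit (R := L i) (ECT.e n)
      rw [hΦe, (groupLike_of_isGL (EBT.gl _)).counit_eq_one, (groupLike_of_isGL (ECT.gl n)).counit_eq_one])
    (AlgHom.toLinearMap_injective <| ECT.e.ext fun n => by
      show Algebra.TensorProduct.map Φ Φ (CoalgebraStruct.comul (R := L i) (ECT.e n)) =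
        CoalgebraStruct.comul (Φl (ECT.e n))
      rw [(groupLike_of_isGL (ECT.gl n)).comul_eq_tmul_self, hΦe,
        (groupLike_of_isGL (EBT.gl _)).comul_eq_tmul_self, Algebra.TensorProduct.map_tmul]
      show Φl (ECT.e n) ⊗ₜ[L i] Φl (ECT.e n) = _
      rw [hΦe])
  let ψT : C →ₐ[R] L i ⊗[R] B :=
    ((Φb : L i ⊗[R] C →ₐ[L i] L i ⊗[R] B).restrictScalars R).comp Algebra.TensorProduct.includeRight
  have hψT : RespD ψT := respD_of_bialgHom Φb
  have hextT : ∀ n, extHom ψT (ECT.e n) = EBT.e (f n) := fun n => by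
    have e : extHom ψT = Φ := Algebra.TensorProduct.ext (Subsingleton.elim _ _) (AlgHom.ext fun c => by
      show extHom ψT ((1 : L i) ⊗ₜ[R] c) = Φ ((1 : L i) ⊗ₜ[R] c)
      rw [extHom_tmul, one_smul]
      rfl)
    rw [e]
    exact hΦe n
  have hres : (push res).comp ψT = ψκ := by
    have h2 : extHom ((push res).comp ψT) = extHom ψκ := AlgHom.toLinearMap_injective (ECκ.e.ext fun n => by
      show extHom ((push res).comp ψT) (ECκ.e n) = extHom ψκ (ECκ.e n)
      rw [hECκ, ← push_extHom, hextT, ← hEBκ, ← hf, hECκ])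
    refine AlgHom.ext fun c => ?_
    have h := DFunLike.congr_fun h2 ((1 : IsLocalRing.ResidueField (L i)) ⊗ₜ[R] c)
    rwa [extHom_tmul, extHom_tmul, one_smul, one_smul] at h
  -- descent
  have hdesc : ∀ c, ∃ b : B, (1 : L i) ⊗ₜ[R] b = ψT c := by
    intro c
    refine exists_of_coface_eq ?_
    let U := L i ⊗[R] L i
    let p₁ : L i →ₐ[R] L i ⊗[R] L i := Algebra.TensorProduct.includeLeft
    let p₂ : L i →ₐ[R] L i ⊗[R] L i := Algebra.TensorProduct.includeRight
    haveI : Module.Finite (L i) (L i ⊗[R] L i) := inferInstance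
    haveI : Module.Finite R (L i ⊗[R] L i) := Module.Finite.trans (L i) _
    let μ : L i ⊗[R] L i →ₐ[R] IsLocalRing.ResidueField R ⊗[R] (L i ⊗[R] L i) := Algebra.TensorProduct.includeRight
    obtain ⟨EBU, -⟩ := exists_split_push EBT p₁
    obtain ⟨ECU, -⟩ := exists_split_push ECT p₁
    suffices key : (push p₁).comp ψT = (push p₂).comp ψT from DFunLike.congr_fun key c
    have hμ : ∀ p : L i →ₐ[R] L i ⊗[R] L i, (push μ).comp ((push p).comp ψT) = resHom ψk (L i ⊗[R] L i) := by
      intro p
      have hfac : ∀ x, IsLocalRing.residue (L i) x = 0 → μ (p x) = 0 := by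
        intro x hx
        rw [IsLocalRing.residue_eq_zero_iff, ← hmLi] at hx
        refine (Ideal.map_le_iff_le_comap.2 fun r hr => ?_ :
          (IsLocalRing.maximalIdeal R).map (algebraMap R (L i)) ≤ RingHom.ker (μ.comp p)) hx
        rw [Ideal.mem_comap, RingHom.mem_ker, AlgHom.commutes, Algebra.TensorProduct.algebraMap_apply,
          show algebraMap R (IsLocalRing.ResidueField R) r = 0 from (IsLocalRing.residue_eq_zero_iff r).2 hr,
          TensorProduct.zero_tmul]
      let g : IsLocalRing.ResidueField (L i) →ₐ[R] IsLocalRing.ResidueField R ⊗[R] (L i ⊗[R] L i) :=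
        Ideal.Quotient.liftₐ (IsLocalRing.maximalIdeal (L i)) (μ.comp p) fun x hx =>
          hfac x ((IsLocalRing.residue_eq_zero_iff x).2 hx)
      have hg : g.comp res = μ.comp p := AlgHom.ext fun x => rfl
      refine AlgHom.ext fun d => ?_
      show push μ (push p (ψT d)) = push _ (ψk d)
      rw [← CplHom.push_comp', ← hg, CplHom.push_comp', ← AlgHom.comp_apply (push res) ψT, hres]
      show push g (push kκ (ψk d)) = _
      rw [← CplHom.push_comp']
      refine congrArg (fun h => push (A := B) h (ψk d)) (AlgHom.ext fun y => ?_)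
      obtain ⟨r, rfl⟩ := IsLocalRing.residue_surjective y
      show g (kκ (algebraMap R (IsLocalRing.ResidueField R) r)) = _
      rw [AlgHom.commutes, AlgHom.commutes]
      exact (Algebra.TensorProduct.includeLeft : IsLocalRing.ResidueField R →ₐ[R]
        IsLocalRing.ResidueField R ⊗[R] (L i ⊗[R] L i)).commutes r |>.symm
    have h1 : RespD ((push p₁).comp ψT) := hψT.push p₁
    have h2 : RespD ((push p₂).comp ψT) := hψT.push p₂
    have hext : extHom ((push p₁).comp ψT) = extHom ((push p₂).comp ψT) :=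
      AlgHom.toLinearMap_injective (ECU.e.ext fun n => by
        refine gl_eq_of_jacobson EBU μ (fun x hx => mem_jacobson_of_residue hx) (h1.isGL (ECU.gl n))
          (h2.isGL (ECU.gl n)) ?_
        show push μ (extHom ((push p₁).comp ψT) (ECU.e n)) = push μ (extHom ((push p₂).comp ψT) (ECU.e n))
        rw [push_extHom, push_extHom, hμ, hμ])
    refine AlgHom.ext fun d => ?_
    have h := DFunLike.congr_fun hext ((1 : L i ⊗[R] L i) ⊗ₜ[R] d)
    rwa [extHom_tmul, extHom_tmul, one_smul, one_smul] at h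
  have hinjB : Function.Injective (Algebra.TensorProduct.includeRight : B →ₐ[R] L i ⊗[R] B) :=
    Module.FaithfullyFlat.tensorProduct_mk_injective (A := R) (B := L i) B
  let φ₁ : C →ₐ[R] B :=
    (AlgEquiv.ofInjective _ hinjB).symm.toAlgHom.comp (ψT.codRestrict _ fun c => hdesc c)
  have hφ₁ : ∀ c, (1 : L i) ⊗ₜ[R] φ₁ c = ψT c := fun c =>
    congrArg Subtype.val ((AlgEquiv.ofInjective _ hinjB).apply_symm_apply (ψT.codRestrict _ (fun c => hdesc c) c))
  refine ⟨BialgHom.ofAlgHom φ₁ (AlgHom.ext fun c => ?_) (AlgHom.ext fun c => ?_), fun c => ?_⟩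
  · have h := hψT.2 c
    rw [← hφ₁, ev1, Algebra.TensorProduct.lift_tmul, map_one, one_mul] at h
    exact FaithfulSMul.algebraMap_injective R (L i) h
  · refine Module.FaithfullyFlat.tensorProduct_mk_injective (A := R) (B := L i) (B ⊗[R] B) ?_
    show (1 : L i) ⊗ₜ[R] Algebra.TensorProduct.map φ₁ φ₁ (Bialgebra.comulAlgHom R C c) =
      (1 : L i) ⊗ₜ[R] Bialgebra.comulAlgHom R B (φ₁ c)
    have h := hψT.1 c
    rw [← hφ₁, D, Algebra.TensorProduct.map_tmul, AlgHom.id_apply] at h
    rw [h]
    generalize Bialgebra.comulAlgHom R C c = z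
    induction z using TensorProduct.induction_on with
    | zero => simp
    | add p q hp hq => simp only [map_add, TensorProduct.tmul_add, hp, hq]
    | tmul p q =>
      rw [pairMap_tmul, ← hφ₁, ← hφ₁]
      simp [J₁, J₂]
  · have hinj : Function.Injective (push (A := B) kκ) :=
      Module.Flat.rTensor_preserves_injective_linearMap (M := B) kκ.toLinearMap (RingHom.injective kκ.toRingHom)
    apply hinj
    show ψκ c = _
    rw [← hres]
    show push res (ψT c) = push kκ ((1 : IsLocalRing.ResidueField R) ⊗ₜ[R] φ₁ c)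
    rw [← hφ₁]
    simp [push]

end Groth.Agent.MultHens
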