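import Groth.Agent.HopfDescLib.Lift
import Groth.Agent.DiagHopfLib.FieldDesc
import Mathlib.RingTheory.Finiteness.Descent
import Mathlib.RingTheory.Henselian
import Mathlib.RingTheory.Etale.Field

set_option autoImplicit false

/-!
Lifting finite groups of multiplicative type from the residue field of a henselian local ring.
-/

noncomputable section

universe u w

open scoped TensorProduct
open Groth.Agent.TorusField Groth.Agent.DiagHopf

namespace Groth.Agent.MultHens

theorem isIsotrivial_of_field {K : Type u} [Field K] {A : Type u} [CommRing A] [HopfAlgebra K A]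
    (hft : Algebra.FiniteType K A) (h : SGA3b.IsMultType K A) : SGA3b.IsIsotrivial K A := by
  obtain ⟨k', _, _, hfin, hsep, M, _, -, he⟩ := isotrivial_of_field hft h
  haveI := hfin
  haveI := hsep
  haveI : Algebra.Etale K k' := { formallyEtale := Algebra.FormallyEtale.of_isSeparable K k', finitePresentation := Algebra.FinitePresentation.of_finiteType.1 inferInstance }
  exact ⟨k', inferInstance, inferInstance, inferInstance, inferInstance, inferInstance, M, inferInstance, he⟩

theorem finite_lift {R : Type u} [CommRing R] [IsLocalRing R] {A : Type u} [CommRing A] [HopfAlgebra R A]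
    (hA : SGA3b.IsIsotrivial R A)
    (hk : Module.Finite (IsLocalRing.ResidueField R) (IsLocalRing.ResidueField R ⊗[R] A)) : Module.Finite R A := by
  obtain ⟨T, _, _, -, -, hff, N, _, ⟨e⟩⟩ := hA
  haveI := hff
  obtain ⟨E⟩ := exists_split_of_bialgEquiv e
  obtain ⟨P, hP⟩ := PrimeSpectrum.comap_surjective_of_faithfullyFlat (B := T)
    ⟨IsLocalRing.maximalIdeal R, inferInstance⟩
  let F := P.asIdeal.ResidueField
  obtain ⟨EF, -⟩ := exists_split_push E (IsScalarTower.toAlgHom R T F)
  haveI : IsLocalHom (algebraMap R F) := ⟨fun r hr => by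
    by_contra hn
    have h1 : algebraMap R T r ∈ P.asIdeal := by
      have : r ∈ (PrimeSpectrum.comap (algebraMap R T) P).asIdeal := hP.symm ▸ hn
      exact this
    rw [IsScalarTower.algebraMap_apply R T F, (Ideal.algebraMap_residueField_eq_zero).2 h1] at hr
    exact not_isUnit_zero hr⟩
  letI : Algebra (IsLocalRing.ResidueField R) F := (IsLocalRing.ResidueField.lift (algebraMap R F)).toAlgebra
  haveI : IsScalarTower R (IsLocalRing.ResidueField R) F := IsScalarTower.of_algebraMap_eq fun _ => rfl
  haveI := hk
  haveI : Module.Finite F (F ⊗[R] A) :=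
    Module.Finite.equiv (TensorProduct.AlgebraTensorModule.cancelBaseChange R (IsLocalRing.ResidueField R) F F A)
  haveI : Finite (Additive N) := Module.Finite.finite_basis EF.e
  haveI : Module.Finite T (T ⊗[R] A) := Module.Finite.of_basis E.e
  exact Module.Finite.of_finite_tensorProduct_of_faithfullyFlat T

theorem exists_lift {R : Type u} [CommRing R] [HenselianLocalRing R]
    (C₀ : Type u) [CommRing C₀] [HopfAlgebra (IsLocalRing.ResidueField R) C₀]
    [Module.Finite (IsLocalRing.ResidueField R) C₀] (h₀ : SGA3b.IsMultType (IsLocalRing.ResidueField R) C₀) :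
    ∃ (C : Type u) (_ : CommRing C) (_ : HopfAlgebra R C), Module.Finite R C ∧ SGA3b.IsIsotrivial R C ∧
      Nonempty ((IsLocalRing.ResidueField R ⊗[R] C) ≃ₐc[IsLocalRing.ResidueField R] C₀) := by
  have h : SGA3b.IsIsotrivial (IsLocalRing.ResidueField R) C₀ := isIsotrivial_of_field inferInstance h₀
  letI i0 : HopfAlgebra (R ⧸ IsLocalRing.maximalIdeal R) C₀ :=
    inferInstanceAs (HopfAlgebra (IsLocalRing.ResidueField R) C₀)
  obtain ⟨C, iC, iH, hC, ⟨e⟩⟩ := HopfDesc.isotrivial_lifts (R := R) (I := IsLocalRing.maximalIdeal R) C₀ h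
  let e' : (IsLocalRing.ResidueField R ⊗[R] C) ≃ₐc[IsLocalRing.ResidueField R] C₀ := e
  exact ⟨C, iC, iH, finite_lift hC (Module.Finite.equiv e'.toAlgEquiv.symm.toLinearEquiv), hC, ⟨e'⟩⟩

end Groth.Agent.MultHens
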